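import Cfsg.Agent.Lib.Invol.ConjSubgroups.Elementary
import Cfsg.Agent.Lib.Recog.RegularLinear
import Cfsg.Agent.Lib.Grp.Zassenhaus.Binary
import Cfsg.Agent.Lib.Block.QuaternionSylow
import Cfsg.Agent.Lib.Grp.Frattini
import Cfsg.Agent.S4023
import Cfsg.Agent.S0225

/-!
# Groups in which subgroups of equal order are conjugate (for S4021)
-/

set_option autoImplicit false
set_option linter.style.haveILetI false

namespace Cfsg.Agent.Invol.ConjSub

open Subgroup

universe u

variable {G : Type u} [Group G] [Finite G]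

theorem cyclic_case (hO : Cfsg.oddCore G = ⊥) (S : Sylow 2 G) (hS : IsCyclic (S : Subgroup G)) :
    IsCyclic G ∧ IsPGroup 2 G := by
  obtain ⟨K, hKn, hK2, hKi⟩ := Block.cyclic_two_complement S hS
  have hK : K = ⊥ := le_bot_iff.1 (hO ▸ Grp.le_pPrimeCore hKn
    ((Nat.prime_two.coprime_iff_not_dvd.2 hK2).symm))
  have htop : (S : Subgroup G) = ⊤ := eq_top_of_card_eq _ (by rw [← hKi, hK, index_bot])
  exact ⟨((MulEquiv.subgroupCongr htop).trans topEquiv).isCyclic.1 hS,
    S.isPGroup'.of_equiv ((MulEquiv.subgroupCongr htop).trans topEquiv)⟩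

theorem quat_sq : ∀ a b : QuaternionGroup 2, a ^ 2 = 1 → b ^ 2 = 1 → a = 1 ∨ b = 1 ∨ a = b := by
  decide +kernel

theorem quat_four : ∀ a : QuaternionGroup 2, a ^ 4 = 1 := by
  decide +kernel

theorem alt_four_squares :
    (Finset.univ.image fun a : alternatingGroup (Fin 4) => a * a).card = 9 := by
  decide +kernel

theorem alt_four_no_two : ∀ N : Subgroup (alternatingGroup (Fin 4)), N.index ≠ 2 := by
  intro N hN
  classical
  have h6 : Nat.card N = 6 := by
    have h := N.card_mul_index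
    rw [hN, nat_card_alternatingGroup, Nat.card_fin,
      show Nat.factorial 4 / 2 = 12 from rfl] at h
    omega
  have hsub : (Finset.univ.image fun a : alternatingGroup (Fin 4) => a * a) ⊆
      Finset.univ.filter fun a => a ∈ N := by
    intro x hx
    obtain ⟨a, -, rfl⟩ := Finset.mem_image.1 hx
    exact Finset.mem_filter.2 ⟨Finset.mem_univ _, mul_self_mem_of_index_two hN a⟩
  have := Finset.card_le_card hsub
  rw [alt_four_squares, ← Fintype.card_subtype, ← Nat.card_eq_fintype_card] at this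
  omega

theorem quaternion_case (h : ConjEq G) (hO : Cfsg.oddCore G = ⊥) (S : Sylow 2 G)
    (eS : (S : Subgroup G) ≃* QuaternionGroup 2) :
    Nonempty (G ≃* Matrix.SpecialLinearGroup (Fin 2) (ZMod 3)) ∨
    Nonempty (G ≃* Matrix.SpecialLinearGroup (Fin 2) (ZMod 5)) := by
  classical
  haveI : Fact (Nat.Prime 2) := ⟨Nat.prime_two⟩
  have hS8 : Nat.card (S : Subgroup G) = 8 := by
    rw [Nat.card_congr eS.toEquiv, Nat.card_eq_fintype_card, QuaternionGroup.card]
  have heven : Even (Nat.card G) := even_iff_two_dvd.2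
    ((show 2 ∣ Nat.card (S : Subgroup G) by rw [hS8]; norm_num).trans (card_subgroup_dvd_card _))
  -- two elements of order two in a Sylow subgroup are equal
  have huniqT : ∀ (T : Sylow 2 G) (a b : G), a ∈ (T : Subgroup G) → b ∈ (T : Subgroup G) →
      a ^ 2 = 1 → b ^ 2 = 1 → a = 1 ∨ b = 1 ∨ a = b := by
    intro T a b ha hb ha2 hb2
    let e := (Sylow.equiv T S).trans eS
    rcases quat_sq (e ⟨a, ha⟩) (e ⟨b, hb⟩)
      (by rw [← map_pow, show (⟨a, ha⟩ : (T : Subgroup G)) ^ 2 = 1 from Subtype.ext ha2, map_one])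
      (by rw [← map_pow, show (⟨b, hb⟩ : (T : Subgroup G)) ^ 2 = 1 from Subtype.ext hb2, map_one])
      with h1 | h1 | h1
    · exact Or.inl (congrArg Subtype.val (e.map_eq_one_iff.1 h1))
    · exact Or.inr (Or.inl (congrArg Subtype.val (e.map_eq_one_iff.1 h1)))
    · exact Or.inr (Or.inr (congrArg Subtype.val (e.injective h1)))
  have hrank : ∀ E : Subgroup G, ¬ IsKleinFour E := by
    intro E hE
    obtain ⟨T, hT⟩ := (IsPGroup.of_card (p := 2) (n := 2) (G := E) hE.card_four).exists_le_sylow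
    obtain ⟨a, ha⟩ := exists_prime_orderOf_dvd_card' (G := E) 2 (by rw [hE.card_four]; norm_num)
    have hsq : ∀ x : E, (x : G) ^ 2 = 1 := fun x => by
      rw [← SubgroupClass.coe_pow, ← hE.exponent_two, Monoid.pow_exponent_eq_one, OneMemClass.coe_one]
    have ha1 : (a : G) ≠ 1 := fun e => by
      rw [← Subgroup.orderOf_coe, e, orderOf_one] at ha; norm_num at ha
    have hall : ∀ x : E, (x : G) = 1 ∨ (x : G) = a := fun x => by
      rcases huniqT T x a (hT x.2) (hT a.2) (hsq x) (hsq a) with h1 | h1 | h1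
      exacts [Or.inl h1, absurd h1 ha1, Or.inr h1]
    have hle : Nat.card E ≤ Nat.card ({1, (a : G)} : Set G) := Nat.card_le_card_of_injective
      (fun x => (⟨(x : G), by rcases hall x with h | h <;> simp [h]⟩ : ({1, (a : G)} : Set G)))
      (fun x y h => Subtype.ext (congrArg (fun w : ({1, (a : G)} : Set G) => (w : G)) h))
    rw [hE.card_four, Nat.card_coe_set_eq] at hle
    have := Set.ncard_insert_le 1 ({(a : G)} : Set G)
    rw [Set.ncard_singleton] at this
    omega
  obtain ⟨z, hz, N, hN, hNodd, hzN⟩ := Cfsg.Agent.S0225.result heven hrank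
  have hN1 : N = ⊥ := le_bot_iff.1 (hO ▸ Grp.le_pPrimeCore hN (Nat.coprime_two_right.2 hNodd))
  have hzc : z ∈ center G := mem_center_iff.2 fun g =>
    (mul_inv_eq_iff_eq_mul.1 (mul_inv_eq_one.1 (mem_bot.1 (hN1 ▸ hzN g)))).symm
  set Z := zpowers z with hZdef
  have hZcard : Nat.card Z = 2 := by rw [hZdef, Nat.card_zpowers, hz]
  have hZc : Z ≤ center G := zpowers_le.2 hzc
  haveI hZn : Z.Normal := ⟨fun x hx g => by rwa [mem_center_iff.1 (hZc hx) g, mul_inv_cancel_right]⟩
  have hZT : ∀ T : Sylow 2 G, Z ≤ (T : Subgroup G) := fun T =>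
    (Grp.le_pCore hZn (IsPGroup.of_card (n := 1) (by rw [hZcard, pow_one]))).trans (Grp.pCore_le_sylow T)
  have hz1 : z ≠ 1 := fun e => by rw [e, orderOf_one] at hz; norm_num at hz
  have hzsq : z ^ 2 = 1 := by rw [← hz, pow_orderOf_eq_one]
  have hU : Recog.RegularLinear.UniqueInv G z := by
    refine ⟨hz, fun g hg => ?_⟩
    by_cases hg1 : g = 1
    · exact Or.inl hg1
    obtain ⟨T, hT⟩ := (IsPGroup.of_card (p := 2) (n := 1) (show Nat.card (zpowers g) = 2 ^ 1 by
      rw [Nat.card_zpowers, orderOf_eq_prime hg hg1, pow_one])).exists_le_sylow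
    rcases huniqT T g z (hT (mem_zpowers g)) (hZT T (mem_zpowers z)) hg hzsq with h1 | h1 | h1
    exacts [absurd h1 hg1, absurd h1 hz1, Or.inr h1]
  -- even subgroups contain the centre
  have hevenZ : ∀ D : Subgroup G, 2 ∣ Nat.card D → Z ≤ D := by
    intro D hD
    obtain ⟨d, hd⟩ := exists_prime_orderOf_dvd_card' (G := D) 2 hD
    have hd' : orderOf (d : G) = 2 := by rw [Subgroup.orderOf_coe, hd]
    rcases hU.2 d (by rw [← hd', pow_orderOf_eq_one]) with e | e
    · rw [e, orderOf_one] at hd'; norm_num at hd'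
    · exact zpowers_le.2 (e ▸ d.2)
  -- the quotient by the centre
  have hπ := QuotientGroup.mk'_surjective Z
  have hOQ : Cfsg.oddCore (G ⧸ Z) = ⊥ := by
    haveI hcn : (Cfsg.oddCore (G ⧸ Z)).Normal := Grp.pPrimeCore_isNormal
    set B := (Cfsg.oddCore (G ⧸ Z)).comap (QuotientGroup.mk' Z) with hB
    have hoddB : Odd (Nat.card (Cfsg.oddCore (G ⧸ Z))) := Nat.coprime_two_right.1 Grp.pPrimeCore_coprime
    have hBc : Nat.card B = 2 * Nat.card (Cfsg.oddCore (G ⧸ Z)) := by
      refine Nat.eq_of_mul_eq_mul_right (Nat.pos_of_ne_zero (Cfsg.oddCore (G ⧸ Z)).index_ne_zero_of_finite) ?_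
      rw [mul_assoc, card_mul_index, ← index_eq_card, ← hZcard, Z.card_mul_index,
        ← index_comap_of_surjective _ hπ]
      exact B.card_mul_index
    -- a Sylow 2-subgroup of `B` has order two, so it is a direct factor
    haveI : B.Normal := hcn.comap _
    obtain ⟨P⟩ : Nonempty (Sylow 2 B) := inferInstance
    have hP2 : Nat.card (P : Subgroup B) = 2 := by
      obtain ⟨k, hk⟩ := P.isPGroup'.exists_card_eq
      have h1 : 2 ^ 1 ∣ Nat.card (P : Subgroup B) :=
        P.pow_dvd_card_of_pow_dvd_card (by rw [hBc, pow_one]; exact dvd_mul_right _ _)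
      have h2 : 2 ^ k ∣ 2 * Nat.card (Cfsg.oddCore (G ⧸ Z)) := hBc ▸ hk ▸ card_subgroup_dvd_card _
      have h3 := (Nat.Coprime.pow_left k (Nat.coprime_two_left.2 hoddB)).dvd_of_dvd_mul_right h2
      rw [hk] at h1 ⊢
      exact le_antisymm (Nat.le_of_dvd two_pos h3) (Nat.le_of_dvd (by positivity) h1)
    obtain ⟨K, hKn, hK2, hKi⟩ := Block.cyclic_two_complement P (isCyclic_of_prime_card (p := 2) hP2)
    have hKO : K ≤ Cfsg.oddCore B :=
      Grp.le_pPrimeCore hKn ((Nat.prime_two.coprime_iff_not_dvd.2 hK2).symm)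
    have hOB : (Cfsg.oddCore B).map B.subtype = ⊥ := by
      refine le_bot_iff.1 (hO ▸ Grp.le_pPrimeCore (ConjAct.normal_of_characteristic_of_normal) ?_)
      rw [card_map_of_injective B.subtype_injective]
      exact Grp.pPrimeCore_coprime
    have hK : K = ⊥ := le_bot_iff.1 (hKO.trans
      ((Subgroup.map_eq_bot_iff_of_injective _ B.subtype_injective).1 hOB).le)
    rw [hK, index_bot, hP2, hBc] at hKi
    exact card_eq_one.1 (by omega)
  let T : Sylow 2 (G ⧸ Z) := S.mapSurjective hπ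
  have hT4 : Nat.card (T : Subgroup (G ⧸ Z)) = 2 ^ 2 := by
    show Nat.card ((S : Subgroup G).map (QuotientGroup.mk' Z)) = 2 ^ 2
    have h1 := ((S : Subgroup G).map (QuotientGroup.mk' Z)).card_mul_index
    rw [index_map_eq _ hπ (by rw [QuotientGroup.ker_mk']; exact hZT S), ← index_eq_card] at h1
    have h2 := Z.card_mul_index
    rw [hZcard, ← h1, ← (S : Subgroup G).card_mul_index, hS8] at h2
    refine Nat.eq_of_mul_eq_mul_right (Nat.pos_of_ne_zero (S : Subgroup G).index_ne_zero_of_finite) ?_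
    omega
  have hsqT : ∀ x ∈ (T : Subgroup (G ⧸ Z)), x ^ 2 = 1 := by
    rintro _ ⟨x, hx, rfl⟩
    rw [← map_pow]
    refine (QuotientGroup.eq_one_iff _).2 ?_
    rcases hU.2 (x ^ 2) (by
      rw [← pow_mul]
      have := congrArg Subtype.val (eS.injective (a₁ := (⟨x, hx⟩ : (S : Subgroup G)) ^ 4) (a₂ := 1)
        (by rw [map_pow, quat_four, map_one]))
      simpa using this) with e | e
    · rw [e]; exact one_mem _
    · rw [e]; exact mem_zpowers z
  have hTel : Cfsg.IsElementaryAbelian 2 (T : Subgroup (G ⧸ Z)) := by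
    refine ⟨⟨⟨fun a b => Subtype.ext ?_⟩⟩, hsqT⟩
    have hinv : ∀ x ∈ (T : Subgroup (G ⧸ Z)), x⁻¹ = x := fun x hx =>
      inv_eq_of_mul_eq_one_left (by rw [← sq, hsqT x hx])
    show (a : G ⧸ Z) * b = b * a
    rw [← hinv _ (mul_mem a.2 b.2), mul_inv_rev, hinv _ a.2, hinv _ b.2]
  rcases rank_two (h.quotient Z) hTel hOQ hT4 with ⟨⟨e⟩⟩ | ⟨⟨e⟩⟩
  · left
    have h24 : Nat.card G = 24 := by
      rw [← Z.card_mul_index, hZcard, index_eq_card, Nat.card_congr e.toEquiv,
        nat_card_alternatingGroup, Nat.card_eq_fintype_card, Fintype.card_fin]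
      rfl
    refine Recog.RegularLinear.order_twentyfour ?_ h24 hU
    rintro ⟨D, hDn, hDi⟩
    have hD : 2 ∣ Nat.card D := by
      have := D.card_mul_index
      rw [hDi, h24] at this
      omega
    refine alt_four_no_two ((D.map (QuotientGroup.mk' Z)).map e.toMonoidHom) ?_
    rw [index_map_of_injective (f := e.toMonoidHom) _ e.injective,
      MonoidHom.range_eq_top.2 e.surjective, index_top, mul_one,
      index_map_eq _ hπ (by rw [QuotientGroup.ker_mk']; exact hevenZ D hD), hDi]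
  · right
    let f : G →* alternatingGroup (Fin 5) := e.toMonoidHom.comp (QuotientGroup.mk' Z)
    have hf : Function.Surjective f := e.surjective.comp hπ
    have hker : f.ker = Z := by
      ext x
      simp [f, MonoidHom.mem_ker, QuotientGroup.eq_one_iff]
    have hperf : commutator G = ⊤ := by
      have h1 : (commutator G).map f = ⊤ := by
        rw [_root_.commutator_def, map_commutator, ← MonoidHom.range_eq_map, MonoidHom.range_eq_top.2 hf,
          ← _root_.commutator_def]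
        exact commutator_alternatingGroup_eq_top (by simp)
      have hD : 2 ∣ Nat.card (commutator G) := by
        refine dvd_trans ?_ (card_map_dvd _ f)
        rw [h1, card_top, nat_card_alternatingGroup, Nat.card_eq_fintype_card, Fintype.card_fin]
        decide
      rw [← comap_map_eq_self (f := f) (H := commutator G) (hker ▸ hevenZ _ hD), h1, comap_top]
    refine Grp.Zas.BinaryIco.nonempty_mulEquiv ⟨⟨f, hf, by rw [hker, hZcard]⟩, ?_, hperf⟩
      Grp.Zas.binaryIco_SL25
    intro u v hu hv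
    rcases hU.2 u (by rw [← hu, pow_orderOf_eq_one]) with e1 | e1
    · rw [e1, orderOf_one] at hu; norm_num at hu
    rcases hU.2 v (by rw [← hv, pow_orderOf_eq_one]) with e2 | e2
    · rw [e2, orderOf_one] at hv; norm_num at hv
    rw [e1, e2]

/-- The list. -/
theorem list (h : ConjEq G) :
    (IsCyclic (G ⧸ Cfsg.oddCore G) ∧ IsPGroup 2 (G ⧸ Cfsg.oddCore G)) ∨
    Nonempty (G ⧸ Cfsg.oddCore G ≃* Cfsg.affineGroup (GaloisField 2 3)) ∨
    Nonempty (G ⧸ Cfsg.oddCore G ≃* Cfsg.semiaffineGroup (GaloisField 2 3)) ∨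
    Nonempty (G ⧸ Cfsg.oddCore G ≃* Cfsg.semiaffineGroup (GaloisField 2 5)) ∨
    Nonempty (G ⧸ Cfsg.oddCore G ≃* Matrix.ProjectiveSpecialLinearGroup (Fin 2) (GaloisField 2 3)) ∨
    Nonempty (G ⧸ Cfsg.oddCore G ≃* MulAut (Matrix.ProjectiveSpecialLinearGroup (Fin 2) (GaloisField 2 5))) ∨
    Nonempty (G ⧸ Cfsg.oddCore G ≃* alternatingGroup (Fin 4)) ∨
    Nonempty (G ⧸ Cfsg.oddCore G ≃* alternatingGroup (Fin 5)) ∨
    Nonempty (G ⧸ Cfsg.oddCore G ≃* Matrix.SpecialLinearGroup (Fin 2) (ZMod 3)) ∨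
    Nonempty (G ⧸ Cfsg.oddCore G ≃* Matrix.SpecialLinearGroup (Fin 2) (ZMod 5)) := by
  haveI : Fact (Nat.Prime 2) := ⟨Nat.prime_two⟩
  haveI hn : (Cfsg.oddCore G).Normal := Grp.pPrimeCore_isNormal
  have hQ := h.quotient (Cfsg.oddCore G)
  have hO : Cfsg.oddCore (G ⧸ Cfsg.oddCore G) = ⊥ := Grp.pPrimeCore_quotient_eq_bot
  obtain ⟨S⟩ : Nonempty (Sylow 2 (G ⧸ Cfsg.oddCore G)) := inferInstance
  have main : IsCyclic (S : Subgroup (G ⧸ Cfsg.oddCore G)) ∨
      Cfsg.IsElementaryAbelian 2 (S : Subgroup (G ⧸ Cfsg.oddCore G)) ∨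
      Nonempty ((S : Subgroup (G ⧸ Cfsg.oddCore G)) ≃* QuaternionGroup 2) := by
    rcases Cfsg.Agent.S4023.result (p := 2) (fun H K _ _ e => hQ H K e) S with h1 | h1 | h1 | h1
    exacts [Or.inl h1, Or.inr (Or.inl h1), Or.inr (Or.inr h1.2), absurd rfl h1.1]
  rcases main with h1 | hel | ⟨⟨e⟩⟩
  · exact Or.inl (cyclic_case hO S h1)
  · obtain ⟨r, hr⟩ := S.isPGroup'.exists_card_eq
    rcases Nat.lt_or_ge r 2 with hlt | hge
    · refine Or.inl (cyclic_case hO S ?_)
      interval_cases r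
      · haveI : Subsingleton (S : Subgroup (G ⧸ Cfsg.oddCore G)) :=
          (Nat.card_eq_one_iff_unique.1 (by rw [hr, pow_zero])).1
        infer_instance
      · exact isCyclic_of_prime_card (p := 2) (by rw [hr, pow_one])
    rcases Nat.lt_or_ge r 3 with hlt | hge3
    · obtain rfl : r = 2 := by omega
      rcases rank_two hQ hel hO hr with h2 | h2
      · exact Or.inr (Or.inr (Or.inr (Or.inr (Or.inr (Or.inr (Or.inl h2))))))
      · exact Or.inr (Or.inr (Or.inr (Or.inr (Or.inr (Or.inr (Or.inr (Or.inl h2)))))))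
    rcases rank_large hQ hel hO hge3 hr with h2 | h2 | h2 | h2 | h2
    · exact Or.inr (Or.inl h2)
    · exact Or.inr (Or.inr (Or.inl h2))
    · exact Or.inr (Or.inr (Or.inr (Or.inl h2)))
    · exact Or.inr (Or.inr (Or.inr (Or.inr (Or.inl h2))))
    · exact Or.inr (Or.inr (Or.inr (Or.inr (Or.inr (Or.inl h2)))))
  · rcases quaternion_case hQ hO S e with h2 | h2
    · exact Or.inr (Or.inr (Or.inr (Or.inr (Or.inr (Or.inr (Or.inr (Or.inr (Or.inl h2))))))))
    · exact Or.inr (Or.inr (Or.inr (Or.inr (Or.inr (Or.inr (Or.inr (Or.inr (Or.inr h2))))))))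

end Cfsg.Agent.Invol.ConjSub
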