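import Cfsg.Prelude.Def_CaseTheorems
import Cfsg.Agent.Lib.Grp.Baer
import Cfsg.Agent.Lib.Grp.Basic
import Cfsg.Agent.Lib.Grp.Cores
import Cfsg.Agent.Lib.Grp.Solvable
import Cfsg.Agent.Lib.Grp.Wielandt.Basic
import Cfsg.Agent.S0205

/-!
# Groups in which subgroups of equal order are conjugate: centralizers of involutions (for S4021)
-/

set_option autoImplicit false
set_option linter.style.haveILetI false

namespace Cfsg.Agent.Invol.ConjSub

open Subgroup
open scoped Pointwise

universe u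

/-- Any two subgroups of the same order are conjugate. -/
def ConjEq (G : Type u) [Group G] : Prop :=
  ∀ H K : Subgroup G, Nat.card H = Nat.card K → ∃ g : G, K = H.map (MulAut.conj g).toMonoidHom

variable {G : Type u} [Group G] [Finite G]

theorem ConjEq.quotient (h : ConjEq G) (N : Subgroup G) [N.Normal] : ConjEq (G ⧸ N) := by
  intro H K hHK
  have hs := QuotientGroup.mk'_surjective N
  have hcard : ∀ A : Subgroup (G ⧸ N),
      Nat.card ↥(A.comap (QuotientGroup.mk' N)) = Nat.card N * Nat.card A := by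
    intro A
    refine Nat.eq_of_mul_eq_mul_right (Nat.pos_of_ne_zero A.index_ne_zero_of_finite) ?_
    have h1 := (A.comap (QuotientGroup.mk' N)).card_mul_index
    rw [index_comap_of_surjective A hs] at h1
    rw [h1, mul_assoc, A.card_mul_index, ← index_eq_card, N.card_mul_index]
  obtain ⟨g, hg⟩ := h (H.comap (QuotientGroup.mk' N)) (K.comap (QuotientGroup.mk' N))
    (by rw [hcard, hcard, hHK])
  refine ⟨QuotientGroup.mk' N g, ?_⟩
  rw [← map_comap_eq_self_of_surjective hs K, hg, Subgroup.map_map,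
    ← map_comap_eq_self_of_surjective hs H, Subgroup.map_map, comap_map_eq_self]
  · congr 1
  · rw [QuotientGroup.ker_mk']
    intro x hx
    show QuotientGroup.mk' N x ∈ H
    rw [show QuotientGroup.mk' N x = 1 from (QuotientGroup.eq_one_iff x).2 hx]
    exact one_mem _

/-- Elements of the same prime order lie in the same normal subgroups. -/
theorem ConjEq.mem_normal (h : ConjEq G) {M : Subgroup G} (hM : M.Normal) {x y : G}
    (hxy : orderOf x = orderOf y) (hy : y ∈ M) : x ∈ M := by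
  obtain ⟨g, hg⟩ := h (zpowers y) (zpowers x) (by rw [Nat.card_zpowers, Nat.card_zpowers, hxy])
  have hx : x ∈ (zpowers y).map (MulAut.conj g).toMonoidHom := hg ▸ mem_zpowers x
  obtain ⟨w, hw, rfl⟩ := hx
  exact hM.conj_mem w (zpowers_le.2 hy hw) g

/-- All involutions are conjugate. -/
theorem ConjEq.invol_conj (h : ConjEq G) {s t : G} (hs : orderOf s = 2) (ht : orderOf t = 2) :
    ∃ g : G, g * s * g⁻¹ = t := by
  obtain ⟨g, hg⟩ := h (zpowers s) (zpowers t) (by rw [Nat.card_zpowers, Nat.card_zpowers, hs, ht])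
  have hx : t ∈ (zpowers s).map (MulAut.conj g).toMonoidHom := hg ▸ mem_zpowers t
  obtain ⟨w, hw, e⟩ := hx
  obtain ⟨j, rfl⟩ := mem_zpowers_iff.1 hw
  have hs2 : s ^ (2 : ℤ) = 1 := by rw [zpow_two, ← sq, ← hs, pow_orderOf_eq_one]
  rcases Int.even_or_odd' j with ⟨k, rfl | rfl⟩
  · rw [zpow_mul, hs2, one_zpow, map_one] at e
    exact absurd ht (by rw [← e, orderOf_one]; norm_num)
  · rw [zpow_add, zpow_mul, hs2, one_zpow, zpow_one, one_mul] at e
    exact ⟨g, e⟩

/-- An involution outside `O₂` inverts an element of odd prime order. -/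
theorem exists_inverted_prime {u : G} (hu : u * u = 1) (hnot : u ∉ Cfsg.pCore 2 G) :
    ∃ (q : ℕ) (x : G), q.Prime ∧ q ≠ 2 ∧ orderOf x = q ∧ u * x * u⁻¹ = x⁻¹ := by
  haveI : Fact (Nat.Prime 2) := ⟨Nat.prime_two⟩
  obtain ⟨g, hg⟩ : ∃ g, ¬ IsPGroup 2 (closure {u, g * u * g⁻¹}) := by
    by_contra h
    push Not at h
    exact hnot (Grp.baer_suzuki u h)
  set v := g * u * g⁻¹ with hv
  have hv2 : v * v = 1 := by
    rw [hv, show g * u * g⁻¹ * (g * u * g⁻¹) = g * (u * u) * g⁻¹ by group, hu]; group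
  have hinv : u * (u * v) * u⁻¹ = (u * v)⁻¹ := by
    rw [mul_inv_rev, inv_eq_of_mul_eq_one_left hu, inv_eq_of_mul_eq_one_left hv2, ← mul_assoc, hu,
      one_mul]
  have hle : closure {u, v} ≤ zpowers u ⊔ zpowers (u * v) := by
    rw [closure_le]
    rintro w (rfl | rfl)
    · exact mem_sup_left (mem_zpowers _)
    · have := mul_mem (mem_sup_left (inv_mem (mem_zpowers u)) : _ ∈ zpowers u ⊔ zpowers (u * v))
        (mem_sup_right (mem_zpowers (u * v)))
      rwa [inv_mul_cancel_left] at this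
  have hnorm : ∀ y : G, u * y * u⁻¹ = y⁻¹ → zpowers u ≤ normalizer (zpowers y : Set G) := by
    intro y hy
    refine zpowers_le.2 (Grp.Wielandt.mem_normalizer_of_le ?_)
    rw [← Grp.map_conj_eq_smul, MonoidHom.map_zpowers, zpowers_le]
    simp only [MulEquiv.coe_toMonoidHom, MulAut.conj_apply]
    rw [hy]
    exact (zpowers y).inv_mem (mem_zpowers y)
  obtain ⟨q, hq, hq2, hqd⟩ : ∃ q : ℕ, q.Prime ∧ q ≠ 2 ∧ q ∣ orderOf (u * v) := by
    by_contra h
    push Not at h
    obtain ⟨k, hk⟩ : ∃ k, orderOf (u * v) = 2 ^ k := ⟨_, Nat.eq_prime_pow_of_unique_prime_dvd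
      (orderOf_pos _).ne' fun {q} hq hqd => by_contra fun hq2 => h q hq hq2 hqd⟩
    obtain ⟨j, -, hj⟩ := (Nat.dvd_prime_pow Nat.prime_two).1
      (((Grp.card_sup_dvd_mul (hnorm _ hinv)).trans (by
        rw [Nat.card_zpowers, Nat.card_zpowers, hk, pow_add]
        exact Nat.mul_dvd_mul (orderOf_dvd_of_pow_eq_one (n := 2 ^ 1) (by rw [pow_one, sq, hu])) dvd_rfl))
        : Nat.card ↥(zpowers u ⊔ zpowers (u * v)) ∣ 2 ^ (1 + k))
    exact hg ((IsPGroup.of_card hj).to_le hle)
  refine ⟨q, (u * v) ^ (orderOf (u * v) / q), hq, hq2, ?_, ?_⟩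
  · rw [orderOf_pow_of_dvd (Nat.div_pos (Nat.le_of_dvd (orderOf_pos _) hqd) hq.pos).ne'
      (Nat.div_dvd_of_dvd hqd), Nat.div_div_self hqd (orderOf_pos _).ne']
  · rw [← conj_pow, hinv, inv_pow]

/-- Every involution centralizing an involution `t` lies in `O₂(C(t))`. -/
theorem ConjEq.mem_pCore (h : ConjEq G) {t : G} (ht : orderOf t = 2)
    {u : ↥(centralizer ({t} : Set G))} (hu : u * u = 1) :
    u ∈ Cfsg.pCore 2 ↥(centralizer ({t} : Set G)) := by
  by_contra hnot
  obtain ⟨q, x, hq, hq2, hx, hinv⟩ := exists_inverted_prime hu hnot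
  have hxo : orderOf (x : G) = q := by rw [Subgroup.orderOf_coe, hx]
  have hxt : Commute t (x : G) := (mem_centralizer_singleton_iff.1 x.2).symm
  have hinv' : (u : G) * (x : G) * (u : G)⁻¹ = (x : G)⁻¹ := congrArg Subtype.val hinv
  have hu1 : u ≠ 1 := fun e => hnot (e ▸ one_mem _)
  have huo : orderOf (u : G) = 2 := by
    rw [Subgroup.orderOf_coe]
    exact orderOf_eq_prime (by rw [sq, hu]) hu1
  have hcop : Nat.Coprime 2 q := (Nat.coprime_primes Nat.prime_two hq).2 (Ne.symm hq2)
  have hnorm : zpowers (u : G) ≤ normalizer (zpowers (x : G) : Set G) := by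
    refine zpowers_le.2 (Grp.Wielandt.mem_normalizer_of_le ?_)
    rw [← Grp.map_conj_eq_smul, MonoidHom.map_zpowers, zpowers_le]
    simp only [MulEquiv.coe_toMonoidHom, MulAut.conj_apply]
    rw [hinv']
    exact inv_mem (mem_zpowers _)
  have hcard : Nat.card ↥(zpowers (t * (x : G))) = Nat.card ↥(zpowers (u : G) ⊔ zpowers (x : G)) := by
    rw [Grp.card_sup_coprime hnorm (by rw [Nat.card_zpowers, Nat.card_zpowers, huo, hxo]; exact hcop),
      Nat.card_zpowers, Nat.card_zpowers, Nat.card_zpowers,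
      hxt.orderOf_mul_eq_mul_orderOf_of_coprime (by rw [ht, hxo]; exact hcop), ht, huo]
  obtain ⟨g, hg⟩ := h _ _ hcard
  rw [MonoidHom.map_zpowers] at hg
  generalize ha : (MulAut.conj g).toMonoidHom (t * (x : G)) = a at hg
  obtain ⟨i, hi⟩ := mem_zpowers_iff.1 (hg ▸ mem_sup_left (mem_zpowers (u : G)) :
    (u : G) ∈ zpowers a)
  obtain ⟨j, hj⟩ := mem_zpowers_iff.1 (hg ▸ mem_sup_right (mem_zpowers (x : G)) :
    (x : G) ∈ zpowers a)
  have hcomm : (u : G) * (x : G) = (x : G) * (u : G) := by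
    rw [← hi, ← hj]
    exact (zpow_mul_comm _ i j)
  rw [hcomm, mul_inv_cancel_right] at hinv'
  have h2 : (x : G) ^ 2 = 1 := by rw [sq]; exact eq_inv_iff_mul_eq_one.1 hinv'
  have := Nat.le_of_dvd two_pos (orderOf_dvd_of_pow_eq_one h2)
  rw [hxo] at this
  exact hq2 (le_antisymm this hq.two_le)

variable {S : Sylow 2 G}

theorem centralizer_le_normalizer (h : ConjEq G) (hel : Cfsg.IsElementaryAbelian 2 (S : Subgroup G))
    {t : G} (ht : orderOf t = 2) (htS : t ∈ (S : Subgroup G)) :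
    centralizer ({t} : Set G) ≤ normalizer ((S : Subgroup G) : Set G) := by
  haveI : Fact (Nat.Prime 2) := ⟨Nat.prime_two⟩
  set C := centralizer ({t} : Set G) with hC
  have hSC : (S : Subgroup G) ≤ C := fun x hx =>
    mem_centralizer_singleton_iff.2 (congrArg Subtype.val (hel.1.is_comm.comm ⟨x, hx⟩ ⟨t, htS⟩))
  let T : Sylow 2 C := S.subtype hSC
  have hT : (T : Subgroup C) ≤ Cfsg.pCore 2 C := fun x hx => h.mem_pCore ht (Subtype.ext (by
    have := hel.2 (x : G) hx
    rwa [sq] at this))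
  refine (normal_subgroupOf_iff_le_normalizer hSC).1 ?_
  show (T : Subgroup C).Normal
  rw [le_antisymm hT (Grp.pCore_le_sylow T)]
  exact Grp.pCore_isNormal

/-- Sylow 2-subgroups are TI. -/
theorem sylow_unique (h : ConjEq G) (hel : Cfsg.IsElementaryAbelian 2 (S : Subgroup G)) (T : Sylow 2 G)
    {t : G} (ht : orderOf t = 2) (htS : t ∈ (S : Subgroup G)) (htT : t ∈ (T : Subgroup G)) :
    T = S := by
  haveI : Fact (Nat.Prime 2) := ⟨Nat.prime_two⟩
  have hTcomm : ∀ a ∈ (T : Subgroup G), ∀ b ∈ (T : Subgroup G), a * b = b * a := by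
    intro a ha b hb
    have e := Sylow.equiv T S
    exact congrArg Subtype.val (e.injective (a₁ := ⟨a, ha⟩ * ⟨b, hb⟩) (a₂ := ⟨b, hb⟩ * ⟨a, ha⟩)
      (by rw [map_mul, map_mul]; exact hel.1.is_comm.comm _ _))
  have hTN : (T : Subgroup G) ≤ normalizer ((S : Subgroup G) : Set G) := fun x hx =>
    centralizer_le_normalizer h hel ht htS (mem_centralizer_singleton_iff.2 (hTcomm x hx t htT))
  refine Sylow.subtype_injective (hP := hTN) (hQ := le_normalizer) ?_
  haveI : ((S.subtype le_normalizer : Sylow 2 (normalizer ((S : Subgroup G) : Set G))) :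
      Subgroup (normalizer ((S : Subgroup G) : Set G))).Normal := normal_in_normalizer
  haveI := Sylow.unique_of_normal (S.subtype le_normalizer) inferInstance
  exact Subsingleton.elim _ _

theorem isSolvable_normalizer (hS : IsMulCommutative (S : Subgroup G)) :
    Group.IsSolvable ↥(normalizer ((S : Subgroup G) : Set G)) := by
  haveI : Fact (Nat.Prime 2) := ⟨Nat.prime_two⟩
  set N := normalizer ((S : Subgroup G) : Set G)
  let T : Sylow 2 N := S.subtype le_normalizer
  haveI hTn : (T : Subgroup N).Normal := normal_in_normalizer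
  haveI : Group.IsSolvable (T : Subgroup N) := Group.isSolvable_of_comm fun a b =>
    Subtype.ext (Subtype.ext (congrArg Subtype.val (hS.is_comm.comm ⟨(a : G), a.2⟩ ⟨(b : G), b.2⟩) :))
  haveI : Group.IsSolvable (N ⧸ (T : Subgroup N)) := by
    refine Cfsg.Agent.S0205.result (Nat.not_even_iff_odd.1 fun h => ?_)
    rw [← index_eq_card] at h
    exact T.not_dvd_index (even_iff_two_dvd.1 h)
  exact (Group.isSolvable_iff_subgroup_quotient (T : Subgroup N)).2 ⟨inferInstance, inferInstance⟩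

theorem isSolvable_centralizer (h : ConjEq G) (hel : Cfsg.IsElementaryAbelian 2 (S : Subgroup G))
    (t : G) (ht : orderOf t = 2) : Group.IsSolvable ↥(centralizer ({t} : Set G)) := by
  haveI : Fact (Nat.Prime 2) := ⟨Nat.prime_two⟩
  have h2 : IsPGroup 2 (zpowers t) := IsPGroup.of_card (n := 1) (by rw [Nat.card_zpowers, ht, pow_one])
  obtain ⟨T, hT⟩ := h2.exists_le_sylow
  obtain ⟨g, rfl⟩ := MulAction.exists_smul_eq G S T
  have hel' : Cfsg.IsElementaryAbelian 2 ((g • S : Sylow 2 G) : Subgroup G) := by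
    have e := Sylow.equiv (g • S) S
    refine ⟨⟨⟨fun a b => e.injective (by rw [map_mul, map_mul]; exact hel.1.is_comm.comm _ _)⟩⟩,
      fun x hx => ?_⟩
    refine congrArg Subtype.val (e.injective (a₁ := (⟨x, hx⟩ : ((g • S : Sylow 2 G) : Subgroup G)) ^ 2)
      (a₂ := 1) ?_)
    rw [map_pow, map_one]
    exact Subtype.ext (hel.2 _ (e ⟨x, hx⟩).2)
  have hle := centralizer_le_normalizer h hel' ht (hT (mem_zpowers t))
  haveI := isSolvable_normalizer hel'.1
  exact Group.isSolvable_of_isSolvable_injective (inclusion_injective hle)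

end Cfsg.Agent.Invol.ConjSub
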