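import Cfsg.Prelude.Def_Perm
import Cfsg.Agent.Lib.Invol.ConjSubgroups.Basic
import Cfsg.Agent.Lib.Invol.GW.Consumers.AbelianSylow
import Cfsg.Agent.Lib.Invol.GW.Consumers.HallNumbers
import Cfsg.Agent.Lib.Classical.DicksonSmall
import Cfsg.Agent.Lib.Fus.SmallSimple
import Cfsg.Agent.Lib.Block.Zas.SharpEven
import Cfsg.Agent.Lib.Block.OrderPSL
import Cfsg.Agent.Lib.Classical.PSLAutStructure
import Cfsg.Agent.S0813
import Cfsg.Agent.S4025

/-!
# Groups in which subgroups of equal order are conjugate: elementary abelian Sylow 2-subgroup (for S4021)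
-/

set_option autoImplicit false
set_option linter.style.haveILetI false

namespace Cfsg.Agent.Invol.ConjSub

open Subgroup Matrix Cfsg.Agent.Classical Cfsg.Agent.Classical.PSLAut

universe u

variable {G : Type u} [Group G] [Finite G] {S : Sylow 2 G}

/-- The Sylow subgroup is self-centralizing in a solvable group with trivial core. -/
theorem pCore_eq_sylow (h : ConjEq G) (hel : Cfsg.IsElementaryAbelian 2 (S : Subgroup G))
    (hO : Cfsg.oddCore G = ⊥) (hne : (S : Subgroup G) ≠ ⊥) (hsol : Group.IsSolvable G) :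
    Cfsg.pCore 2 G = (S : Subgroup G) := by
  haveI : Fact (Nat.Prime 2) := ⟨Nat.prime_two⟩
  haveI := hsol
  refine le_antisymm (Grp.pCore_le_sylow S) fun x hx => Grp.centralizer_pCore_le hO ?_
  exact mem_centralizer_iff.2 fun y hy =>
    congrArg Subtype.val (hel.1.is_comm.comm ⟨y, Grp.pCore_le_sylow S hy⟩ ⟨x, hx⟩)

theorem radical (h : ConjEq G) (hel : Cfsg.IsElementaryAbelian 2 (S : Subgroup G))
    (hO : Cfsg.oddCore G = ⊥) (hnn : ¬ (S : Subgroup G).Normal) :
    ¬ Group.IsSolvable G ∧ ∀ N : Subgroup G, N.Normal → Group.IsSolvable N → N = ⊥ := by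
  have hne : (S : Subgroup G) ≠ ⊥ := fun e => hnn (e ▸ inferInstance)
  have hns : ¬ Group.IsSolvable G := fun hsol =>
    hnn (pCore_eq_sylow h hel hO hne hsol ▸ Grp.pCore_isNormal)
  exact ⟨hns, GW.radical_eq_bot hO hns S hel.1 (isSolvable_centralizer h hel)⟩

/-- The simple socle of a group with non-normal Sylow subgroup. -/
theorem exists_socle (h : ConjEq G) (hel : Cfsg.IsElementaryAbelian 2 (S : Subgroup G))
    (hO : Cfsg.oddCore G = ⊥) (hnn : ¬ (S : Subgroup G).Normal) {r : ℕ} (hr : 2 ≤ r)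
    (hcard : Nat.card (S : Subgroup G) = 2 ^ r) :
    ∃ (M : Subgroup G) (_ : M.Normal) (F : Type) (_ : Field F) (_ : Fintype F),
      Fintype.card F = 2 ^ r ∧ centralizer (M : Set G) = ⊥ ∧ Odd M.index ∧ M.index ∣ r ∧
      Nat.card (MulAut M) = r * Nat.card M ∧ IsSimpleGroup M ∧
      Nat.card M = 2 ^ r * ((2 ^ r - 1) * (2 ^ r + 1)) ∧
      Nonempty (M ≃* ProjectiveSpecialLinearGroup (Fin 2) F) := by
  haveI : Fact (Nat.Prime 2) := ⟨Nat.prime_two⟩
  obtain ⟨hns, hrad⟩ := radical h hel hO hnn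
  obtain ⟨M, hMn, hMs, hMc, hMC⟩ := GW.exists_simple_socle hns hrad (isSolvable_centralizer h hel)
  haveI := hMn
  haveI := hMs
  have h2M : 2 ∣ Nat.card M := even_iff_two_dvd.1 (Nat.not_odd_iff_even.1 fun hodd =>
    hMc ⟨⟨IsSimpleGroup.comm_iff_isSolvable.2 (Cfsg.Agent.S0205.result hodd)⟩⟩)
  obtain ⟨m, hm⟩ := exists_prime_orderOf_dvd_card' (G := M) 2 h2M
  have hSM : (S : Subgroup G) ≤ M := fun x hx => by
    by_cases h1 : x = 1
    · rw [h1]; exact one_mem _
    · exact h.mem_normal hMn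
        (by rw [orderOf_eq_prime (hel.2 x hx) h1, Subgroup.orderOf_coe, hm]) m.2
  let T : Sylow 2 M := S.subtype hSM
  have hTcard : Nat.card (T : Subgroup M) = 2 ^ r :=
    (Nat.card_congr (subgroupOfEquivOfLe hSM).toEquiv).trans hcard
  have hTc : IsMulCommutative (T : Subgroup M) := ⟨⟨fun a b => Subtype.ext (Subtype.ext
    (congrArg Subtype.val (hel.1.is_comm.comm ⟨(a : M), a.2⟩ ⟨(b : M), b.2⟩) :))⟩⟩
  have hTne : (T : Subgroup M) ≠ ⊥ := T.ne_bot_of_dvd_card h2M
  have hC : ∀ t ∈ (T : Subgroup M), orderOf t = 2 →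
      centralizer ({t} : Set M) ≤ normalizer ((T : Subgroup M) : Set M) := by
    intro t ht ht2 c hc
    have h1 : (c : G) ∈ normalizer ((S : Subgroup G) : Set G) :=
      centralizer_le_normalizer h hel (t := (t : G)) (by rw [Subgroup.orderOf_coe, ht2]) ht
        (mem_centralizer_singleton_iff.2 (congrArg Subtype.val (mem_centralizer_singleton_iff.1 hc)))
    rw [mem_normalizer_iff]
    exact fun y => mem_normalizer_iff.1 h1 y
  have htop : normalizer ((T : Subgroup M) : Set M) ≠ ⊤ := fun h' => by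
    rcases (normalizer_eq_top_iff.1 h').eq_bot_or_eq_top with e | e
    · exact hTne e
    · refine hMc ⟨⟨fun a b => ?_⟩⟩
      exact congrArg Subtype.val (hTc.is_comm.comm ⟨a, e ▸ mem_top a⟩ ⟨b, e ▸ mem_top b⟩)
  obtain ⟨hM1, hM2, hM3⟩ := CoreConsumers.isStronglyEmbedded_of_centralizers htop T le_rfl hTne hC
  have hsp : Cfsg.IsStronglyPEmbedded 2 (normalizer ((T : Subgroup M) : Set M)) :=
    Invol.isStronglyPEmbedded_iff.2 ⟨even_iff_two_dvd.1 hM2, hM1, fun g hg h =>
      Nat.not_even_iff_odd.2 (hM3 g hg) (even_iff_two_dvd.2 h)⟩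
  rcases (CoreConsumers.simple_borel hMc h2M (Cfsg.Agent.S2798.result _ hsp)).1 with
    ⟨F, i1, i2, n, hn, hq, ⟨e⟩⟩ | ⟨F, i1, i2, k, hk, hq, ⟨e⟩⟩ | ⟨F, i1, i2, n, hn, hq, ⟨e⟩⟩
  rotate_left
  · exact absurd (GW.mapSurjective_comm hTc (f := e.toMonoidHom) e.surjective)
      (CentInt.suzuki_sylow_nonabelian hk hq _)
  · exact absurd (GW.mapSurjective_comm hTc (f := e.toMonoidHom) e.surjective)
      (CentInt.psu_sylow_nonabelian hq rfl (by omega) _)
  have heven : Even (Fintype.card F) := by rw [hq]; exact Nat.even_pow.2 ⟨even_two, by omega⟩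
  have hMcard : Nat.card M = 2 ^ n * ((2 ^ n - 1) * (2 ^ n + 1)) := by
    rw [Nat.card_congr e.toEquiv, GW.HallNumbers.card_psl_two_pow heven, hq]
  have hnr : n = r := by
    apply Nat.pow_right_injective le_rfl
    show 2 ^ n = 2 ^ r
    refine Nat.dvd_antisymm (hTcard ▸ T.pow_dvd_card_of_pow_dvd_card (hMcard ▸ dvd_mul_right _ _)) ?_
    have h1 : 2 ^ r ∣ 2 ^ n * ((2 ^ n - 1) * (2 ^ n + 1)) := hMcard ▸ hTcard ▸ card_subgroup_dvd_card _
    refine Nat.Coprime.dvd_of_dvd_mul_right ?_ h1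
    refine Nat.Coprime.pow_left r (Nat.coprime_two_left.2 (Nat.odd_mul.2 ⟨?_, ?_⟩))
    · exact Nat.Even.sub_odd (Nat.one_le_two_pow) (Nat.even_pow.2 ⟨even_two, by omega⟩) odd_one
    · exact (Nat.even_pow.2 ⟨even_two, by omega⟩).add_one
  subst hnr
  have hidx : Odd M.index := Nat.not_even_iff_odd.1 fun he =>
    S.not_dvd_index ((even_iff_two_dvd.1 he).trans (index_dvd_of_le hSM))
  have hAut : Nat.card (MulAut M) = n * Nat.card M := by
    rw [Nat.card_congr (MulAut.congr e).toEquiv,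
      Cfsg.Agent.S0813.result (F := F) 2 n (by omega) hq 2 le_rfl
        (fun _ => by have := Nat.pow_le_pow_right two_pos hn; omega),
      if_pos rfl, one_mul, Block.Zas.card_PGL_two, hMcard, hq]
    ring
  have hinj : Function.Injective (MulAut.conjNormal : G →* MulAut M) := by
    refine (injective_iff_map_eq_one _).2 fun g hg => mem_bot.1 (hMC ▸ mem_centralizer_iff.2 fun m hm => ?_)
    have := congrArg (fun f : MulAut M => ((f ⟨m, hm⟩ : M) : G)) hg
    simp only [MulAut.conjNormal_apply, MulAut.one_apply] at this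
    exact (mul_inv_eq_iff_eq_mul.1 this).symm
  have hdvd : M.index ∣ n := by
    refine Nat.dvd_of_mul_dvd_mul_right (Nat.card_pos (α := M)) ?_
    rw [← hAut, mul_comm, M.card_mul_index]
    exact card_dvd_of_injective _ hinj
  exact ⟨M, hMn, F, i1, i2, hq, hMC, hidx, hdvd, hAut, hMs, hMcard, ⟨e⟩⟩

theorem top_of_index_one {M : Subgroup G} {L : Type*} [Group L] (h : M.index = 1) (e : M ≃* L) :
    Nonempty (G ≃* L) := by
  rw [index_eq_one] at h
  exact ⟨(topEquiv.symm.trans (MulEquiv.subgroupCongr h.symm)).trans e⟩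

/-- The rank two case. -/
theorem rank_two (h : ConjEq G) (hel : Cfsg.IsElementaryAbelian 2 (S : Subgroup G))
    (hO : Cfsg.oddCore G = ⊥) (hcard : Nat.card (S : Subgroup G) = 2 ^ 2) :
    Nonempty (G ≃* alternatingGroup (Fin 4)) ∨ Nonempty (G ≃* alternatingGroup (Fin 5)) := by
  classical
  haveI : Fact (Nat.Prime 2) := ⟨Nat.prime_two⟩
  by_cases hn : (S : Subgroup G).Normal
  swap
  · right
    obtain ⟨M, hMn, F, i1, i2, -, -, hodd, hdvd, -, hMs, hMc, -⟩ := exists_socle h hel hO hn le_rfl hcard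
    haveI := hMs
    obtain ⟨e⟩ := Fus.alternating_five_of_card (G := M) (by rw [hMc]; norm_num)
    refine top_of_index_one ?_ e
    rcases (Nat.dvd_prime Nat.prime_two).1 hdvd with h1 | h1
    · exact h1
    · rw [h1] at hodd; exact absurd hodd (by decide)
  left
  haveI := hn
  have hne : (S : Subgroup G) ≠ ⊥ := fun e => by rw [e, card_bot] at hcard; norm_num at hcard
  haveI : Group.IsSolvable (S : Subgroup G) := Group.isSolvable_of_comm (G := (S : Subgroup G)) fun a b => hel.1.is_comm.comm a b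
  have hodd : Odd (S : Subgroup G).index := Nat.not_even_iff_odd.1 fun he =>
    S.not_dvd_index (even_iff_two_dvd.1 he)
  have hsol : Group.IsSolvable G := by
    haveI : Group.IsSolvable (G ⧸ (S : Subgroup G)) := Cfsg.Agent.S0205.result (by rwa [← index_eq_card])
    exact (Group.isSolvable_iff_subgroup_quotient (S : Subgroup G)).2 ⟨inferInstance, inferInstance⟩
  have hCS : centralizer ((S : Subgroup G) : Set G) ≤ (S : Subgroup G) := by
    have hpc := pCore_eq_sylow h hel hO hne hsol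
    haveI := hsol
    have h1 := Grp.centralizer_pCore_le (G := G) (p := 2) hO
    rwa [hpc] at h1
  -- the index divides the order of the symmetric group on the points of `S`
  have h24 : (S : Subgroup G).index ∣ 24 := by
    let φ : G →* Equiv.Perm (S : Subgroup G) :=
      { toFun := fun g => (MulAut.conjNormal g : MulAut (S : Subgroup G)).toEquiv
        map_one' := by rw [map_one]; rfl
        map_mul' := fun a b => by rw [map_mul]; rfl }
    have hker : φ.ker ≤ (S : Subgroup G) := fun g hg => hCS (mem_centralizer_iff.2 fun y hy => by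
      have := congrArg (fun f : Equiv.Perm (S : Subgroup G) => ((f ⟨y, hy⟩ : (S : Subgroup G)) : G))
        (MonoidHom.mem_ker.1 hg)
      simp only [φ, MonoidHom.coe_mk, OneHom.coe_mk, MulEquiv.toEquiv_eq_coe, EquivLike.coe_coe,
        MulAut.conjNormal_apply, Equiv.Perm.coe_one, id_eq] at this
      exact (mul_inv_eq_iff_eq_mul.1 this).symm)
    refine (index_dvd_of_le hker).trans ?_
    rw [index_ker]
    refine (card_subgroup_dvd_card _).trans ?_
    rw [Nat.card_perm, hcard]
    rfl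
  obtain ⟨a, ha⟩ := exists_prime_orderOf_dvd_card' (G := (S : Subgroup G)) 2 (by rw [hcard]; norm_num)
  -- no involution is central
  have hnc : ∀ t : G, orderOf t = 2 → t ∉ center G := by
    intro t ht htc
    have hall : ∀ x ∈ (S : Subgroup G), x = 1 ∨ x = t := fun x hx => by
      by_cases h1 : x = 1
      · exact Or.inl h1
      · obtain ⟨g, hg⟩ := h.invol_conj ht (orderOf_eq_prime (hel.2 x hx) h1)
        refine Or.inr ?_
        rw [← hg, mem_center_iff.1 htc g, mul_inv_cancel_right]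
    have hle : Nat.card (S : Subgroup G) ≤ Nat.card ({1, t} : Set G) := Nat.card_le_card_of_injective
      (fun x => (⟨(x : G), by rcases hall x x.2 with h | h <;> simp [h]⟩ : ({1, t} : Set G)))
      (fun x y h => Subtype.ext (congrArg (fun w : ({1, t} : Set G) => (w : G)) h))
    rw [hcard, Nat.card_coe_set_eq] at hle
    have := Set.ncard_insert_le 1 ({t} : Set G)
    rw [Set.ncard_singleton] at this
    omega
  have h3 : (S : Subgroup G).index = 3 := by
    have hd : (S : Subgroup G).index ∣ 3 :=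
      (Nat.Coprime.dvd_of_dvd_mul_left (Nat.Coprime.pow_right 3 (Nat.coprime_two_right.2 hodd))
        (show (S : Subgroup G).index ∣ 2 ^ 3 * 3 from h24))
    refine ((Nat.dvd_prime Nat.prime_three).1 hd).resolve_left fun h1 => ?_
    rw [index_eq_one] at h1
    refine hnc a (by rw [Subgroup.orderOf_coe, ha]) (mem_center_iff.2 fun g => ?_)
    exact congrArg Subtype.val (hel.1.is_comm.comm ⟨g, h1 ▸ mem_top g⟩ a)
  have h12 : Nat.card G = 12 := by
    rw [← (S : Subgroup G).card_mul_index, hcard, h3]; norm_num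
  haveI : Fact (Nat.Prime 3) := ⟨Nat.prime_three⟩
  obtain ⟨x, hx⟩ := exists_prime_orderOf_dvd_card' (G := G) 3 (by rw [h12]; norm_num)
  have hP : Nat.card (zpowers x) = 3 := by rw [Nat.card_zpowers, hx]
  refine Dickson.nonempty_alternating_four h12 (zpowers x) hP (le_antisymm ?_ le_normalizer)
  refine (eq_of_le_of_card_ge le_normalizer ?_).ge
  rw [hP]
  by_contra hlt
  push Not at hlt
  set N := normalizer (zpowers x : Set G)
  have h2 : 2 ∣ Nat.card N := by
    have h12' : Nat.card N ∣ 12 := h12 ▸ card_subgroup_dvd_card N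
    have h3' : 3 ∣ Nat.card N := hP ▸ card_dvd_of_le le_normalizer
    have := Nat.le_of_dvd (by norm_num) h12'
    interval_cases hN : Nat.card N <;> omega
  obtain ⟨v, hv⟩ := exists_prime_orderOf_dvd_card' (G := N) 2 h2
  have hv' : orderOf (v : G) = 2 := by rw [Subgroup.orderOf_coe, hv]
  have hvS : (v : G) ∈ (S : Subgroup G) := by
    haveI := Sylow.unique_of_normal S hn
    obtain ⟨T, hT⟩ := (IsPGroup.of_card (p := 2) (n := 1)
      (show Nat.card (zpowers (v : G)) = 2 ^ 1 by rw [Nat.card_zpowers, hv', pow_one])).exists_le_sylow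
    exact (Subsingleton.elim T S) ▸ hT (mem_zpowers _)
  have hcom : x * (v : G) = (v : G) * x := by
    have h1 : (v : G) * x * (v : G)⁻¹ * x⁻¹ ∈ (S : Subgroup G) ⊓ zpowers x := by
      refine ⟨?_, mul_mem ((mem_normalizer_iff.1 v.2 x).1 (mem_zpowers x)) ((zpowers x).inv_mem (mem_zpowers x))⟩
      rw [show (v : G) * x * (v : G)⁻¹ * x⁻¹ = (v : G) * (x * (v : G)⁻¹ * x⁻¹) by group]
      exact mul_mem hvS (hn.conj_mem _ ((S : Subgroup G).inv_mem hvS) x)
    rw [Grp.inf_eq_bot_of_coprime (by rw [hP, hcard]; norm_num), mem_bot] at h1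
    exact (mul_inv_eq_iff_eq_mul.1 (mul_inv_eq_one.1 h1)).symm
  refine hnc v hv' ?_
  have hC : centralizer ({(v : G)} : Set G) = ⊤ := by
    apply eq_top_of_card_eq
    refine Nat.dvd_antisymm (card_subgroup_dvd_card _) ?_
    rw [h12]
    refine Nat.Coprime.mul_dvd_of_dvd_of_dvd (by norm_num : Nat.Coprime 4 3) ?_ ?_
    · rw [show (4 : ℕ) = Nat.card (S : Subgroup G) by rw [hcard]; norm_num]
      exact card_dvd_of_le fun y hy => mem_centralizer_singleton_iff.2
        (congrArg Subtype.val (hel.1.is_comm.comm ⟨y, hy⟩ ⟨v, hvS⟩))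
    · exact hP ▸ card_dvd_of_le (zpowers_le.2 (mem_centralizer_singleton_iff.2 hcom))
  exact mem_center_iff.2 fun g => mem_centralizer_singleton_iff.1 (hC ▸ mem_top g : g ∈ _)

theorem ringAut_dvd_semiaffine (K : Type*) [Field K] [Finite K] :
    Nat.card (RingAut K) ∣ Nat.card (Cfsg.semiaffineGroup K) := by
  let f : RingAut K →* Cfsg.semiaffineGroup K :=
    { toFun := fun φ => ⟨φ.toEquiv, 1, 0, φ, fun x => by simp⟩
      map_one' := rfl
      map_mul' := fun _ _ => rfl }
  exact card_dvd_of_injective f fun a b hab =>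
    RingEquiv.ext fun x => congrArg (fun g : Cfsg.semiaffineGroup K => (g : Equiv.Perm K) x) hab

/-- Automorphisms of order `5` in the semiaffine group. -/
theorem five_dvd_semiaffine : 5 ∣ Nat.card (Cfsg.semiaffineGroup (GaloisField 2 5)) := by
  haveI : Fact (Nat.Prime 2) := ⟨Nat.prime_two⟩
  letI : Fintype (GaloisField 2 5) := Fintype.ofFinite _
  have hF : Fintype.card (GaloisField 2 5) = 2 ^ 5 := by
    rw [← Nat.card_eq_fintype_card, GaloisField.card 2 5 (Nat.succ_ne_zero 4)]
  have h := ringAut_dvd_semiaffine (GaloisField 2 5)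
  rwa [(card_ringAut (F := GaloisField 2 5) hF).2] at h

/-- The field automorphism of order three of `PSL₂(8)` is outer. -/
theorem exists_outer_three {F : Type} [Field F] [Fintype F] (hF : Fintype.card F = 2 ^ 3) :
    ∃ β : MulAut (ProjectiveSpecialLinearGroup (Fin 2) F), β ^ 3 = 1 ∧ ∀ a, β ≠ MulAut.conj a := by
  haveI : Fact (Nat.Prime 2) := ⟨Nat.prime_two⟩
  haveI : Fact (Nat.Prime 3) := ⟨Nat.prime_three⟩
  haveI : Finite (RingAut F) := Nat.finite_of_card_ne_zero (by rw [(card_ringAut hF).2]; norm_num)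
  obtain ⟨σ, hσ⟩ := exists_prime_orderOf_dvd_card' (G := RingAut F) 3 (by rw [(card_ringAut hF).2])
  let f : RingAut F →* MulAut (ProjectiveSpecialLinearGroup (Fin 2) F) :=
    { toFun := fun τ => pslSemi 1 τ
      map_one' := pslSemi_one
      map_mul' := fun a b => by rw [pslSemi_mul, map_one, mul_one]; rfl }
  refine ⟨f σ, by rw [← map_pow, ← hσ, pow_orderOf_eq_one, map_one], fun a ha => ?_⟩
  obtain ⟨s, rfl⟩ := slToPSL_surjective a
  rw [conj_eq_pslSemi] at ha
  have h1 : pslSemi (Matrix.SpecialLinearGroup.toGL s)⁻¹ σ =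
      (1 : MulAut (ProjectiveSpecialLinearGroup (Fin 2) F)) := by
    rw [← mul_one (Matrix.SpecialLinearGroup.toGL s)⁻¹, ← pslSemi_refl_mul, show pslSemi 1 σ = f σ from rfl,
      ha, ← pslSemi_refl_inv, inv_mul_cancel]
  have h2 := ((pslSemi_eq_one_iff le_rfl).1 h1).1
  rw [show σ = 1 from h2, orderOf_one] at hσ
  norm_num at hσ

/-- The case of rank at least three. -/
theorem rank_large (h : ConjEq G) (hel : Cfsg.IsElementaryAbelian 2 (S : Subgroup G))
    (hO : Cfsg.oddCore G = ⊥) {r : ℕ} (hr : 3 ≤ r) (hcard : Nat.card (S : Subgroup G) = 2 ^ r) :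
    Nonempty (G ≃* Cfsg.affineGroup (GaloisField 2 3)) ∨
    Nonempty (G ≃* Cfsg.semiaffineGroup (GaloisField 2 3)) ∨
    Nonempty (G ≃* Cfsg.semiaffineGroup (GaloisField 2 5)) ∨
    Nonempty (G ≃* ProjectiveSpecialLinearGroup (Fin 2) (GaloisField 2 3)) ∨
    Nonempty (G ≃* MulAut (ProjectiveSpecialLinearGroup (Fin 2) (GaloisField 2 5))) := by
  haveI : Fact (Nat.Prime 2) := ⟨Nat.prime_two⟩
  set N := normalizer ((S : Subgroup G) : Set G) with hN
  haveI := isSolvable_normalizer (S := S) hel.1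
  haveI hKn : (Cfsg.pPrimeCore 2 ↥N).Normal := Grp.pPrimeCore_isNormal
  have h25 := Cfsg.Agent.S4025.result (p := 2) (fun H K _ _ e => h H K e) S r hr hel hcard N hN inferInstance
  by_cases hn : (S : Subgroup G).Normal
  · have htop : N = ⊤ := normalizer_eq_top_iff.2 hn
    let eN : ↥N ≃* G := (MulEquiv.subgroupCongr htop).trans topEquiv
    have hK : Cfsg.pPrimeCore 2 ↥N = ⊥ := by
      refine (Subgroup.map_eq_bot_iff_of_injective _ (f := eN.toMonoidHom) eN.injective).1 (le_bot_iff.1 ?_)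
      refine le_trans (Grp.le_pPrimeCore (p := 2) (hKn.map _ eN.surjective) ?_) hO.le
      rw [card_map_of_injective (f := eN.toMonoidHom) eN.injective]
      exact Grp.pPrimeCore_coprime
    let eK : ↥N ⧸ Cfsg.pPrimeCore 2 ↥N ≃* G :=
      ((QuotientGroup.quotientMulEquivOfEq hK).trans QuotientGroup.quotientBot).trans eN
    rcases h25 with ⟨-, -, h8⟩ | ⟨-, -, ⟨e⟩⟩
    · rcases h8 rfl with ⟨⟨e⟩⟩ | ⟨⟨e⟩⟩
      · exact Or.inr (Or.inl ⟨eK.symm.trans e⟩)
      · exact Or.inl ⟨eK.symm.trans e⟩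
    · exact Or.inr (Or.inr (Or.inl ⟨eK.symm.trans e⟩))
  right; right; right
  obtain ⟨M, hMn, F, i1, i2, hq, hMC, hodd, hdvd, hAut, hMs, hMc, ⟨e⟩⟩ :=
    exists_socle h hel hO hn (by omega : 2 ≤ r) hcard
  haveI := hMn
  letI : Fintype (GaloisField 2 r) := Fintype.ofFinite _
  have hfield : Fintype.card F = Fintype.card (GaloisField 2 r) := by
    rw [hq, ← Nat.card_eq_fintype_card, GaloisField.card 2 r (by omega)]
  obtain ⟨e'⟩ := Block.OrdP.psl_congr' (n := 2) (FiniteField.ringEquivOfCardEq hfield)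
  have hG : Nat.card G = Nat.card M * M.index := M.card_mul_index.symm
  have hinj : Function.Injective (MulAut.conjNormal : G →* MulAut M) := by
    refine (injective_iff_map_eq_one _).2 fun g hg => mem_bot.1 (hMC ▸ mem_centralizer_iff.2 fun m hm => ?_)
    have := congrArg (fun f : MulAut M => ((f ⟨m, hm⟩ : M) : G)) hg
    simp only [MulAut.conjNormal_apply, MulAut.one_apply] at this
    exact (mul_inv_eq_iff_eq_mul.1 this).symm
  haveI : Finite (MulAut M) := Finite.of_injective (fun f : MulAut M => (f : M → M)) DFunLike.coe_injective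
  have hbij : M.index = r → Function.Bijective (MulAut.conjNormal : G →* MulAut M) := fun hi =>
    hinj.bijective_of_nat_card_le (by rw [hAut, hG, hi, mul_comm])
  rcases h25 with ⟨rfl, -, -⟩ | ⟨rfl, -, ⟨e25⟩⟩
  · left
    refine top_of_index_one ?_ (e.trans e')
    refine ((Nat.dvd_prime Nat.prime_three).1 hdvd).resolve_right fun hi => ?_
    obtain ⟨β, hβ, hout⟩ := exists_outer_three hq
    obtain ⟨g, hg⟩ := (hbij hi).2 ((MulAut.congr e).symm β)
    haveI : Fact (Nat.Prime 3) := ⟨Nat.prime_three⟩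
    have hg1 : g ≠ 1 := fun h1 => by
      rw [h1, map_one] at hg
      refine hout 1 ?_
      rw [map_one, ← (MulAut.congr e).apply_symm_apply β, ← hg, map_one]
    have hg3 : g ^ 3 = 1 := hinj (by rw [map_pow, hg, ← map_pow, hβ, map_one, map_one])
    obtain ⟨m, hm⟩ := exists_prime_orderOf_dvd_card' (G := M) 3 (by rw [hMc]; norm_num)
    have hgM : g ∈ M :=
      h.mem_normal hMn (by rw [orderOf_eq_prime hg3 hg1, Subgroup.orderOf_coe, hm]) m.2
    refine hout (e ⟨g, hgM⟩) ?_
    rw [← (MulAut.congr e).apply_symm_apply β, ← hg]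
    refine MulEquiv.ext fun y => ?_
    show e (MulAut.conjNormal g (e.symm y)) = e ⟨g, hgM⟩ * y * (e ⟨g, hgM⟩)⁻¹
    conv_rhs => rw [← e.apply_symm_apply y, ← map_mul, ← map_inv, ← map_mul]
    exact congrArg e (Subtype.ext (MulAut.conjNormal_apply (H := M) _ _))
  · right
    have h5 : 5 ∣ Nat.card G :=
      (five_dvd_semiaffine.trans (dvd_of_eq (Nat.card_congr e25.toEquiv).symm)).trans
        ((card_quotient_dvd_card _).trans (card_subgroup_dvd_card N))
    have hi : M.index = 5 := by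
      refine ((Nat.dvd_prime Nat.prime_five).1 hdvd).resolve_left fun h1 => ?_
      rw [hG, h1, mul_one, hMc] at h5
      norm_num at h5
    exact ⟨((MulEquiv.ofBijective _ (hbij hi)).trans (MulAut.congr (e.trans e')))⟩

end Cfsg.Agent.Invol.ConjSub
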